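import Groth.Agent.QCoh.VanIdeal
import Groth.Agent.QCoh.Support
import Groth.Agent.QCoh.Stalk
import Mathlib

/-!
# Sections supported in a closed set, and germs on a reduced curve
-/

universe u

open CategoryTheory CategoryTheory.Limits AlgebraicGeometry TopologicalSpace Opposite

namespace Groth.Agent.PureLib

open QCoh

variable {X : Scheme.{u}}

/-- Sections of `M` supported in `Z`. -/
def supported (M : X.Modules) (Z : Set X) : SubMod M where
  mem U :=
    { carrier := {s | ∀ z, ∀ hz : z ∈ U, z ∉ Z → M.presheaf.germ U z hz s = 0}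
      add_mem' := fun {a b} ha hb z hz hzZ => by rw [map_add, ha z hz hzZ, hb z hz hzZ, add_zero]
      zero_mem' := fun z hz _ => map_zero _
      smul_mem' := fun r a ha z hz hzZ => by rw [germ_smul', ha z hz hzZ, smul_zero] }
  map_mem {U V} i {s} hs := fun z hz hzZ => by
    rw [M.presheaf.germ_res_apply (homOfLE i) z hz s]; exact hs z (i hz) hzZ
  of_locally U s hs := fun z hz hzZ => by
    obtain ⟨V, i, hzV, h⟩ := hs z hz
    have := h z hzV hzZ
    rwa [M.presheaf.germ_res_apply (homOfLE i) z hzV s] at this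

theorem germ_of_mem (M : X.Modules) (Z : Set X) {U : X.Opens} (t : Γ((supported M Z).toModules, U)) {z : X}
    (hz : z ∈ U) (hzZ : z ∉ Z) : M.presheaf.germ U z hz ((supported M Z).ι.app U t) = 0 :=
  (supported M Z).ι_app_mem U t z hz hzZ

theorem isQCoh_supported [IsNoetherian X] {M : X.Modules} (hM : Coh.IsQCoh M) {Z : Set X} (hZ : IsClosed Z) :
    Coh.IsQCoh (supported M Z).toModules := by
  refine isQCoh_of_sections (fun U hU f s => ?_) (fun U hU f t ht => ?_)
  · obtain ⟨n, t, ht⟩ := exists_pow_smul_eq_map hM hU f ((supported M Z).ι.app _ s)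
    -- some power of `f` kills `t` on `U \ Z`
    let W : Set X := (U : Set X) ∩ Zᶜ
    have hW : IsOpen W := U.2.inter hZ.isOpen_compl
    have hpt : ∀ z : W, ∃ V : X.Opens, IsAffineOpen V ∧ z.1 ∈ V ∧ (V : Set X) ⊆ W := fun z => by
      obtain ⟨_, ⟨V, hV, rfl⟩, hzV, hle⟩ :=
        X.isBasis_affineOpens.exists_subset_of_mem_open z.2 hW
      exact ⟨V, hV, hzV, hle⟩
    choose V hVa hzV hVW using hpt
    obtain ⟨T, hT⟩ := (NoetherianSpace.isCompact W).elim_finite_subcover (fun z => (V z : Set X))
      (fun z => (V z).2) (fun z hz => Set.mem_iUnion.2 ⟨⟨z, hz⟩, hzV ⟨z, hz⟩⟩)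
    have hkill : ∀ z : W, ∃ m : ℕ, M.presheaf.map (homOfLE (fun _ h => (hVW z h).1 : V z ≤ U)).op (f ^ m • t) = 0 := by
      intro z
      have hle : V z ≤ U := fun _ h => (hVW z h).1
      obtain ⟨m, hm⟩ := exists_pow_smul_eq_zero hM (hVa z) (X.presheaf.map (homOfLE hle).op f)
        (M.presheaf.map (homOfLE hle).op t) (by
          refine eq_zero_of_locally _ _ fun p hp => ?_
          have hpV : p ∈ V z := X.basicOpen_le _ hp
          have hpf : p ∈ X.basicOpen f := by rw [Scheme.basicOpen_res] at hp; exact hp.2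
          have h0 : M.presheaf.germ U p (hle hpV) t = 0 := by
            rw [← M.presheaf.germ_res_apply (homOfLE (X.basicOpen_le f)) p hpf t, ht, germ_smul',
              germ_of_mem M Z s hpf (hVW z hpV).2, smul_zero]
          have h1 : M.presheaf.germ _ p hp
              (M.presheaf.map (homOfLE (X.basicOpen_le (X.presheaf.map (homOfLE hle).op f))).op
                (M.presheaf.map (homOfLE hle).op t)) = 0 := by
            rw [TopCat.Presheaf.germ_res_apply, TopCat.Presheaf.germ_res_apply]; exact h0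
          obtain ⟨V', hpV', i, j, e⟩ := M.presheaf.germ_eq p hp hp _ 0 (h1.trans (map_zero _).symm)
          exact ⟨V', i, hpV', e.trans (map_zero _)⟩)
      refine ⟨m, ?_⟩
      rw [map_smul', map_pow]
      exact hm
    choose m hm using hkill
    let N := T.sup m
    have hmem : f ^ N • t ∈ (supported M Z).mem U := fun z hz hzZ => by
      obtain ⟨w, hwT, hzw⟩ := Set.mem_iUnion₂.1 (hT (show z ∈ W from ⟨hz, hzZ⟩))
      obtain ⟨d, hd⟩ := Nat.exists_eq_add_of_le' (Finset.le_sup (f := m) hwT)
      rw [show f ^ N • t = f ^ d • (f ^ m w • t) by rw [← mul_smul, ← pow_add]; exact congrArg (f ^ · • t) hd,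
        germ_smul', ← M.presheaf.germ_res_apply (homOfLE (fun _ h => (hVW w h).1 : V w ≤ U)) z hzw (f ^ m w • t),
        hm w, map_zero, smul_zero]
    obtain ⟨t', ht'⟩ := (supported M Z).exists_app_eq hmem
    refine ⟨n + N, t', (supported M Z).ι_app_injective _ ?_⟩
    rw [map_app_comm, ht', map_smul', ht, Scheme.Modules.Hom.app_smul, ← mul_smul, map_pow, ← pow_add, add_comm n N]
  · obtain ⟨n, hn⟩ := exists_pow_smul_eq_zero hM hU f
      ((supported M Z).ι.app U t) (by rw [← map_app_comm, ht, map_zero])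
    refine ⟨n, (supported M Z).ι_app_injective _ ?_⟩
    rw [Scheme.Modules.Hom.app_smul, hn, map_zero]

theorem isCoh_supported [IsNoetherian X] {M : X.Modules} (hM : Coh.IsCoh M) {Z : Set X} (hZ : IsClosed Z) :
    Coh.IsCoh (supported M Z).toModules := by
  refine isCoh_iff.2 ⟨isQCoh_supported hM.1 hZ, fun U => ?_⟩
  haveI := finite_sections hM U.2
  haveI : IsNoetherianRing Γ(X, U.1) := IsLocallyNoetherian.component_noetherian U
  let φ : Γ((supported M Z).toModules, U.1) →ₗ[Γ(X, U.1)] Γ(M, U.1) :=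
    { toFun := (supported M Z).ι.app U.1
      map_add' := fun a b => map_add ((supported M Z).ι.app U.1).hom a b
      map_smul' := fun a b => (supported M Z).ι.app_smul a b }
  exact Module.Finite.of_injective φ ((supported M Z).ι_app_injective U.1)

theorem support_supported [IsNoetherian X] {M : X.Modules} (hM : Coh.IsCoh M) {Z : Set X} (hZ : IsClosed Z) :
    CohB1.support (supported M Z).toModules ⊆ Z := by
  intro z hz
  by_contra hzZ
  obtain ⟨_, ⟨U, hU, rfl⟩, hzU, -⟩ :=
    X.isBasis_affineOpens.exists_subset_of_mem_open (Set.mem_univ z) isOpen_univ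
  refine hz ((subsingleton_stalk_iff (isQCoh_supported hM.1 hZ) hU hzU).2 fun t => ?_)
  obtain ⟨g, hg, hgt⟩ := (germ_eq_zero_iff hM.1 hU hzU _).1 (germ_of_mem M Z t hzU hzZ)
  refine ⟨g, hg, (supported M Z).ι_app_injective U ?_⟩
  rw [Scheme.Modules.Hom.app_smul, hgt, map_zero]

/-- In a reduced ring an element of a minimal prime is killed by an element outside it. -/
theorem exists_mul_eq_zero_of_mem_minimalPrime {R : Type*} [CommRing R] [IsReduced R] {p : Ideal R} [hp : p.IsPrime]
    (hmin : ∀ q : Ideal R, q.IsPrime → q ≤ p → q = p) {f : R} (hf : f ∈ p) : ∃ g, g ∉ p ∧ g * f = 0 := by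
  by_contra h
  push_neg at h
  have hdisj : Disjoint ((⊥ : Ideal R) : Set R) ((p.primeCompl ⊔ Submonoid.powers f : Submonoid R) : Set R) := by
    rw [Set.disjoint_left]
    intro x hx hxS
    obtain ⟨a, ha, _, ⟨n, rfl⟩, rfl⟩ := Submonoid.mem_sup.1 hxS
    refine h a ha (IsReduced.eq_zero _ ⟨n + 1, ?_⟩)
    rw [mul_pow, show a ^ (n + 1) * f ^ (n + 1) = (a * f ^ n) * (a ^ n * f) by ring,
      show a * f ^ n = 0 from hx, zero_mul]
  obtain ⟨q, hq, -, hqS⟩ := Ideal.exists_le_prime_disjoint _ _ hdisj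
  have hqp : q ≤ p := fun x hx => by
    by_contra hxp
    exact Set.disjoint_left.1 hqS hx (Submonoid.mem_sup_left hxp)
  exact Set.disjoint_left.1 hqS (hmin q hq hqp ▸ hf) (Submonoid.mem_sup_right (Submonoid.mem_powers f))

/-- A non-closed point of a curve has no proper generalization. -/
theorem eq_of_specializes [CompactSpace X]
    (hequi : ∀ W ∈ irreducibleComponents (X : Type u), topologicalKrullDim W = 1)
    {y y' : X} (hy : ¬ IsClosed ({y} : Set X)) (h : y' ⤳ y) : y' = y := by
  by_contra hne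
  obtain ⟨x', hx', hcl⟩ := (isClosed_closure (s := ({y} : Set X))).exists_closed_singleton
    ⟨y, subset_closure rfl⟩
  obtain ⟨W, hW, hWy'⟩ := exists_mem_irreducibleComponents_subset_of_isIrreducible _
    (isIrreducible_singleton (x := y')).closure
  have hyW : y ∈ W := hWy' (specializes_iff_mem_closure.1 h)
  have hy'W : y' ∈ W := hWy' (subset_closure rfl)
  have hxy : y ⤳ x' := specializes_iff_mem_closure.2 hx'
  have hxW : x' ∈ W := hWy' (specializes_iff_mem_closure.1 (h.trans hxy))
  let C : W → IrreducibleCloseds W := fun w =>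
    ⟨closure {w}, isIrreducible_singleton.closure, isClosed_closure⟩
  have hle : ∀ a b : W, (a : X) ⤳ (b : X) → C b ≤ C a := fun a b hab =>
    closure_minimal (Set.singleton_subset_iff.2 (specializes_iff_mem_closure.1 (subtype_specializes_iff a b |>.2 hab)))
      isClosed_closure
  have hlt : ∀ a b : W, (a : X) ⤳ (b : X) → (a : X) ≠ b → C b < C a := fun a b hab hab' => by
    refine lt_of_le_of_ne (hle a b hab) fun e => hab' ?_
    have hmem : a ∈ (C b : Set W) := by rw [e]; exact subset_closure rfl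
    have : (b : X) ⤳ (a : X) := (subtype_specializes_iff b a).1 (specializes_iff_mem_closure.2 hmem)
    exact (hab.antisymm this).eq
  have hx'y : (y : X) ≠ x' := fun e => hy (e ▸ hcl)
  let s : LTSeries (IrreducibleCloseds W) := LTSeries.mk 2 ![C ⟨x', hxW⟩, C ⟨y, hyW⟩, C ⟨y', hy'W⟩]
    (Fin.strictMono_iff_lt_succ.2 fun i => by
      fin_cases i
      · exact hlt ⟨y, hyW⟩ ⟨x', hxW⟩ hxy hx'y
      · exact hlt ⟨y', hy'W⟩ ⟨y, hyW⟩ h hne)
  have := Order.LTSeries.length_le_krullDim s
  change (2 : WithBot ℕ∞) ≤ topologicalKrullDim W at this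
  rw [hequi W hW] at this
  exact absurd this (by decide)

theorem germ_eq_zero_of_notClosed [CompactSpace X] [IsReduced X]
    (hequi : ∀ W ∈ irreducibleComponents (X : Type u), topologicalKrullDim W = 1)
    {V : X.Opens} (hV : IsAffineOpen V) (f : Γ(X, V)) {y : X} (hyV : y ∈ V) (hy : ¬ IsClosed ({y} : Set X))
    (hf : y ∉ X.basicOpen f) : X.presheaf.germ V y hyV f = 0 := by
  have hfp : f ∈ (hV.primeIdealOf ⟨y, hyV⟩).asIdeal := by
    by_contra h
    exact hf ((mem_basicOpen_iff_notMem hV hyV f).2 h)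
  obtain ⟨g, hg, hgf⟩ := exists_mul_eq_zero_of_mem_minimalPrime (p := (hV.primeIdealOf ⟨y, hyV⟩).asIdeal)
    (fun q hq hle => by
      obtain ⟨z, hzV, hz⟩ := exists_point hV ⟨q, hq⟩
      have hsp : z ⤳ y := by
        have h := (((PrimeSpectrum.le_iff_specializes (⟨q, hq⟩ : PrimeSpectrum Γ(X, V)) _).1 hle).map
          hV.fromSpec.continuous)
        rw [← hz, hV.fromSpec_primeIdealOf, hV.fromSpec_primeIdealOf] at h
        exact h
      obtain rfl := eq_of_specializes hequi hy hsp
      exact (congrArg PrimeSpectrum.asIdeal hz).symm) hfp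
  have hu : IsUnit (X.presheaf.germ V y hyV g) :=
    (X.mem_basicOpen g y hyV).1 ((mem_basicOpen_iff_notMem hV hyV g).2 hg)
  rw [← hu.mul_right_eq_zero, ← map_mul, hgf, map_zero]

end Groth.Agent.PureLib
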